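import Groth.Agent.HomRep.MorS

/-!
The scheme of open-closed subsets of a finite locally free scheme is affine etale over the base.
-/

set_option autoImplicit false
set_option backward.isDefEq.respectTransparency false
set_option backward.isDefEq.respectTransparency.types false
set_option linter.style.haveILetI false

universe u

open CategoryTheory CategoryTheory.Limits MonoidalCategory CartesianMonoidalCategory AlgebraicGeometry Opposite

noncomputable section

namespace Groth.Agent.IdemSchemeLib

open HomRep HomRep.MorS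

variable {Z S : Scheme.{u}}

/-- The structure map of two copies of the base. -/
def fold (S : Scheme.{u}) : S ⨿ S ⟶ S := coprod.desc (𝟙 S) (𝟙 S)

instance : IsAffineHom (fold S) := by unfold fold; infer_instance

instance : Etale (fold S) := by
  refine (IsZariskiLocalAtSource.iff_of_openCover (P := @Etale) (coprodOpenCover.{u, u} S S)).2 fun i => ?_
  rcases i with _ | _
  · show Etale (coprod.inl ≫ fold S)
    rw [fold, coprod.inl_desc]; infer_instance
  · show Etale (coprod.inr ≫ fold S)
    rw [fold, coprod.inr_desc]; infer_instance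

instance : LocallyOfFinitePresentation (fold S) := inferInstance

instance : IsSeparated (fold S) := inferInstance

/-- The open-closed subset cut out by a map to two copies of the base. -/
def clo {Y : Over S} (m : Y ⟶ Over.mk (fold S)) : Set Y.left := m.left ⁻¹' Set.range (coprod.inl : S ⟶ S ⨿ S)

theorem clo_comp {Y' Y : Over S} (k : Y' ⟶ Y) (m : Y ⟶ Over.mk (fold S)) : clo (k ≫ m) = k.left ⁻¹' clo m := rfl

theorem isClopen_clo {Y : Over S} (m : Y ⟶ Over.mk (fold S)) : IsClopen (clo m) := by
  refine IsClopen.preimage ⟨?_, (coprod.inl : S ⟶ S ⨿ S).isOpenEmbedding.isOpen_range⟩ m.left.continuous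
  rw [(isCompl_range_inl_inr S S).eq_compl]
  exact isClosed_compl_iff.2 (coprod.inr : S ⟶ S ⨿ S).isOpenEmbedding.isOpen_range

theorem exists_clo_eq {Y : Over S} {U : Set Y.left} (hU : IsClopen U) : ∃ m : Y ⟶ Over.mk (fold S), clo m = U := by
  let V : Y.left.Opens := ⟨U, hU.isOpen⟩
  let V' : Y.left.Opens := ⟨Uᶜ, hU.compl.isOpen⟩
  have hc : IsCompl V.ι.opensRange V'.ι.opensRange := by
    simp only [Scheme.Opens.opensRange_ι, isCompl_iff, disjoint_iff, codisjoint_iff, ← TopologicalSpace.Opens.coe_inj]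
    exact ⟨Set.inter_compl_self U, Set.union_compl_self U⟩
  obtain ⟨hl⟩ := nonempty_isColimit_binaryCofanMk_of_isCompl V.ι V'.ι hc
  let m : Y.left ⟶ S ⨿ S := hl.desc (BinaryCofan.mk (V.ι ≫ Y.hom ≫ coprod.inl) (V'.ι ≫ Y.hom ≫ coprod.inr))
  have h1 : V.ι ≫ m = V.ι ≫ Y.hom ≫ coprod.inl := hl.fac _ ⟨WalkingPair.left⟩
  have h2 : V'.ι ≫ m = V'.ι ≫ Y.hom ≫ coprod.inr := hl.fac _ ⟨WalkingPair.right⟩
  refine ⟨Over.homMk m ?_, Set.ext fun y => ?_⟩
  · refine BinaryCofan.IsColimit.hom_ext hl ?_ ?_
    · show V.ι ≫ m ≫ fold S = V.ι ≫ Y.hom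
      rw [reassoc_of% h1, fold, coprod.inl_desc, Category.comp_id]
    · show V'.ι ≫ m ≫ fold S = V'.ι ≫ Y.hom
      rw [reassoc_of% h2, fold, coprod.inr_desc, Category.comp_id]
  show m y ∈ Set.range (coprod.inl : S ⟶ S ⨿ S) ↔ y ∈ U
  by_cases hy : y ∈ U
  · refine iff_of_true ⟨Y.hom y, ?_⟩ hy
    have h := congrArg (fun k : V.toScheme ⟶ S ⨿ S => k ⟨y, hy⟩) h1
    simpa [Scheme.Hom.comp_apply] using h.symm
  · refine iff_of_false ?_ hy
    rintro ⟨s, hs⟩
    have h := congrArg (fun k : V'.toScheme ⟶ S ⨿ S => k ⟨y, hy⟩) h2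
    simp only [Scheme.Hom.comp_apply] at h
    exact inl_ne_inr _ _ s (Y.hom y) (hs.trans h)

theorem clo_injective {Y : Over S} : Function.Injective (clo (Y := Y)) := by
  intro m m' h
  let V : Y.left.Opens := ⟨clo m, (isClopen_clo m).isOpen⟩
  let V' : Y.left.Opens := ⟨(clo m)ᶜ, (isClopen_clo m).compl.isOpen⟩
  have key : ∀ (m : Y ⟶ Over.mk (fold S)) (W : Y.left.Opens) (j : S ⟶ S ⨿ S) [IsOpenImmersion j],
      j ≫ fold S = 𝟙 S → (∀ y ∈ W, m.left y ∈ Set.range j) → W.ι ≫ m.left = W.ι ≫ Y.hom ≫ j := by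
    intro m W j _ hj hW
    have hr : Set.range (W.ι ≫ m.left) ⊆ Set.range j := by
      rintro _ ⟨w, rfl⟩
      exact hW _ w.2
    have hl := IsOpenImmersion.lift_fac j (W.ι ≫ m.left) hr
    have h2 : IsOpenImmersion.lift j (W.ι ≫ m.left) hr = W.ι ≫ Y.hom := by
      conv_lhs => rw [← Category.comp_id (IsOpenImmersion.lift j (W.ι ≫ m.left) hr), ← hj, reassoc_of% hl]
      exact congrArg (W.ι ≫ ·) (Over.w m)
    rw [← hl, h2, Category.assoc]
  have hc : IsCompl V.ι.opensRange V'.ι.opensRange := by
    simp only [Scheme.Opens.opensRange_ι, isCompl_iff, disjoint_iff, codisjoint_iff, ← TopologicalSpace.Opens.coe_inj]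
    exact ⟨Set.inter_compl_self _, Set.union_compl_self _⟩
  obtain ⟨hl⟩ := nonempty_isColimit_binaryCofanMk_of_isCompl V.ι V'.ι hc
  refine Over.OverMorphism.ext (BinaryCofan.IsColimit.hom_ext hl ?_ ?_)
  · have hi : (coprod.inl : S ⟶ S ⨿ S) ≫ fold S = 𝟙 S := coprod.inl_desc _ _
    show V.ι ≫ m.left = V.ι ≫ m'.left
    rw [key m V _ hi fun y hy => hy, key m' V _ hi fun y hy => show y ∈ clo m' from h ▸ hy]
  · have hi : (coprod.inr : S ⟶ S ⨿ S) ≫ fold S = 𝟙 S := coprod.inr_desc _ _
    have hr : ∀ (m : Y ⟶ Over.mk (fold S)) (y : Y.left), y ∉ clo m → m.left y ∈ Set.range (coprod.inr : S ⟶ S ⨿ S) :=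
      fun m y hy => (isCompl_range_inl_inr S S).compl_eq ▸ hy
    show V'.ι ≫ m.left = V'.ι ≫ m'.left
    rw [key m V' _ hi fun y hy => hr m y hy, key m' V' _ hi fun y hy => hr m' y (h ▸ hy)]

variable (g : Z ⟶ S)

/-- The map of products induced by a map of parameters. -/
def bm {T' T : Over S} (t : T' ⟶ T) :
    (Over.map g).obj ((Over.pullback g).obj T') ⟶ (Over.map g).obj ((Over.pullback g).obj T) :=
  (Over.map g).map ((Over.pullback g).map t)

theorem clo_map {T' T : Over S} (t : T' ⟶ T) (x : (Flatn.morS g (fold S)).obj (op T)) :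
    clo ((Flatn.morS g (fold S)).map t.op x : (Over.map g).obj ((Over.pullback g).obj T') ⟶ Over.mk (fold S)) =
      (bm g t).left ⁻¹' clo (x : (Over.map g).obj ((Over.pullback g).obj T) ⟶ Over.mk (fold S)) := rfl

theorem isPullback_bm {T' T : Over S} (t : T' ⟶ T) :
    IsPullback (bm g t).left (pullback.fst T'.hom g) (pullback.fst T.hom g) t.left := by
  have h1 : (bm g t).left ≫ pullback.fst T.hom g = pullback.fst T'.hom g ≫ t.left := by simp [bm]
  have h2 : (bm g t).left ≫ pullback.snd T.hom g = pullback.snd T'.hom g := by simp [bm]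
  refine IsPullback.of_right ?_ h1 (IsPullback.of_hasPullback T.hom g).flip
  rw [h2, Over.w t]
  exact (IsPullback.of_hasPullback T'.hom g).flip

theorem bijective_map_of_closedImmersion {T' T : Over S} (t : T' ⟶ T) [IsClosedImmersion t.left] [Surjective t.left] :
    Function.Bijective ((Flatn.morS g (fold S)).map t.op) := by
  haveI : IsClosedImmersion (bm g t).left := MorphismProperty.of_isPullback (isPullback_bm g t).flip inferInstance
  haveI : Surjective (bm g t).left := MorphismProperty.of_isPullback (isPullback_bm g t).flip inferInstance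
  have hh : IsHomeomorph (bm g t).left :=
    isHomeomorph_iff_isEmbedding_surjective.2 ⟨(bm g t).left.isClosedEmbedding.isEmbedding, Surjective.surj⟩
  refine ⟨fun x x' h => clo_injective (hh.surjective.preimage_injective ?_), fun y => ?_⟩
  · exact ((clo_map g t x).symm.trans (congrArg _ h)).trans (clo_map g t x')
  · obtain ⟨x, hx⟩ := exists_clo_eq (Y := (Over.map g).obj ((Over.pullback g).obj T))
      (U := (bm g t).left '' clo (y : (Over.map g).obj ((Over.pullback g).obj T') ⟶ Over.mk (fold S)))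
      ⟨hh.isClosedMap _ (isClopen_clo _).isClosed, hh.isOpenMap _ (isClopen_clo _).isOpen⟩
    refine ⟨x, clo_injective ((clo_map g t x).trans ?_)⟩
    rw [hx]
    exact hh.injective.preimage_image _

/-- A chart over an affine open piece of the base. -/
theorem exists_chart [IsFinite g] [Flat g] [LocallyOfFinitePresentation g] (R : Type u) [CommRing R]
    (p : Spec (CommRingCat.of R) ⟶ S) :
    ∃ (W : Over (Spec (CommRingCat.of R))) (e : (Flatn.morS g (fold S)).obj (op ((Over.map p).obj W))),
      Etale W.hom ∧ ∀ (T : Over (Spec (CommRingCat.of R))) (x : (Flatn.morS g (fold S)).obj (op ((Over.map p).obj T))),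
        ∃! a : T ⟶ W, (Flatn.morS g (fold S)).map ((Over.map p).map a).op e = x := by
  let f := fold S
  let H : Over S := Over.mk g
  let G : Over S := Over.mk f
  haveI : IsFinite (Red.bc p H).hom := inferInstanceAs (IsFinite (pullback.snd g p))
  haveI : Flat (Red.bc p H).hom := inferInstanceAs (Flat (pullback.snd g p))
  haveI : LocallyOfFinitePresentation (Red.bc p H).hom := inferInstanceAs (LocallyOfFinitePresentation (pullback.snd g p))
  haveI : IsAffineHom (Red.bc p G).hom := inferInstanceAs (IsAffineHom (pullback.snd f p))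
  obtain ⟨W, ev, hW, -, hfp, hrep⟩ := exists_weilRes R (Red.bc p H) (Red.bc p G)
  let υ : H ⊗ (Over.map p).obj W ⟶ G := inv (proj p H W) ≫ ((Over.mapPullbackAdj p).homEquiv _ _).symm ev
  have huniv : ∀ (T : Over (Spec (CommRingCat.of R))) (x : (Flatn.morS g f).obj (op ((Over.map p).obj T))),
      ∃! a : T ⟶ W, (Flatn.morS g f).map ((Over.map p).map a).op ((conv g f).symm υ) = x := fun T x => by
    obtain ⟨a, ha, hu⟩ := hrep T ((Over.mapPullbackAdj p).homEquiv _ _ (proj p H T ≫ conv g f x))
    have key : ∀ b : T ⟶ W, (Flatn.morS g f).map ((Over.map p).map b).op ((conv g f).symm υ) = x ↔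
        (Red.bc p H ◁ b) ≫ ev = (Over.mapPullbackAdj p).homEquiv _ _ (proj p H T ≫ conv g f x) := by
      intro b
      rw [← (conv g f).injective.eq_iff, conv_map, Equiv.apply_symm_apply]
      have hnat : (Over.map p).map (Red.bc p H ◁ b) ≫ proj p H W = proj p H T ≫ (H ◁ (Over.map p).map b) := by
        refine hom_ext _ _ ?_ ?_
        · simp only [proj, Category.assoc, lift_fst, whiskerLeft_fst]
          rw [← Adjunction.homEquiv_naturality_left_symm, whiskerLeft_fst]
        · simp only [proj, Category.assoc, lift_snd, whiskerLeft_snd]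
          rw [lift_snd_assoc, ← Functor.map_comp, ← Functor.map_comp, whiskerLeft_snd]
      have : proj p H T ≫ (H ◁ (Over.map p).map b) ≫ υ =
          (Over.map p).map (Red.bc p H ◁ b) ≫ ((Over.mapPullbackAdj p).homEquiv _ _).symm ev := by
        rw [← reassoc_of% hnat, IsIso.hom_inv_id_assoc]
      rw [← cancel_epi (proj p H T), this, ← ((Over.mapPullbackAdj p).homEquiv _ _).injective.eq_iff,
        Adjunction.homEquiv_naturality_left, Equiv.apply_symm_apply]
    exact ⟨a, (key a).2 ha, fun b hb => hu b ((key b).1 hb)⟩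
  refine ⟨W, (conv g f).symm υ, ?_, huniv⟩
  haveI := hW
  haveI : IsAffine W.left := isAffine_of_isAffineHom W.hom
  haveI : LocallyOfFinitePresentation W.hom :=
    hfp (inferInstanceAs (LocallyOfFinitePresentation (pullback.snd f p)))
  let fW := Spec.preimage (W.left.isoSpec.inv ≫ W.hom)
  letI : Algebra R Γ(W.left, ⊤) := fW.hom.toAlgebra
  have hWm : Spec.map (CommRingCat.ofHom (algebraMap R Γ(W.left, ⊤))) = W.left.isoSpec.inv ≫ W.hom := Spec.map_preimage _
  suffices he : Algebra.Etale R Γ(W.left, ⊤) by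
    have h1 : Etale (Spec.map (CommRingCat.ofHom (algebraMap R Γ(W.left, ⊤)))) := by
      rw [HasRingHomProperty.Spec_iff (P := @Etale)]
      exact RingHom.etale_algebraMap.2 he
    rw [hWm] at h1
    exact (MorphismProperty.cancel_left_of_respectsIso @Etale _ _).1 h1
  haveI : Algebra.FinitePresentation R Γ(W.left, ⊤) := by
    have h : LocallyOfFinitePresentation (Spec.map (CommRingCat.ofHom (algebraMap R Γ(W.left, ⊤)))) := by
      rw [hWm]; infer_instance
    rw [HasRingHomProperty.Spec_iff (P := @LocallyOfFinitePresentation)] at h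
    exact RingHom.finitePresentation_algebraMap.1 h
  haveI : Algebra.FormallyEtale R Γ(W.left, ⊤) := by
    refine Algebra.FormallyEtale.iff_comp_bijective.2 fun C _ _ I hI => ?_
    let sp : ∀ (C : Type u) [CommRing C] [Algebra R C], Over (Spec (CommRingCat.of R)) :=
      fun C _ _ => Over.mk (Spec.map (CommRingCat.ofHom (algebraMap R C)))
    let eW : sp Γ(W.left, ⊤) ≅ W := Over.isoMk W.left.isoSpec.symm hWm.symm
    let tr : ∀ (C : Type u) [CommRing C] [Algebra R C], (Γ(W.left, ⊤) →ₐ[R] C) → (sp C ⟶ W) :=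
      fun C _ _ ψ => Over.homMk (U := sp C) (V := sp Γ(W.left, ⊤)) (Spec.map (CommRingCat.ofHom ψ.toRingHom)) (by
        show Spec.map _ ≫ Spec.map _ = Spec.map _
        rw [← Spec.map_comp]
        congr 1
        exact CommRingCat.hom_ext ψ.comp_algebraMap) ≫ eW.hom
    have htr : ∀ (C : Type u) [CommRing C] [Algebra R C], Function.Bijective (tr C) := fun C _ _ => by
      refine ⟨fun ψ ψ' h => ?_, fun a => ?_⟩
      · have h' := congrArg CommaMorphism.left ((cancel_mono eW.hom).1 h)
        exact AlgHom.coe_ringHom_injective (congrArg CommRingCat.Hom.hom (Spec.map_injective h'))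
      · obtain ⟨ψ, hψ⟩ := exists_algHom (R := R) (A := Γ(W.left, ⊤)) (D := C) (a ≫ eW.inv).left (Over.w _)
        exact ⟨ψ, by rw [← Iso.eq_comp_inv]; exact Over.OverMorphism.ext hψ⟩
    let j : sp (C ⧸ I) ⟶ sp C := Over.homMk (Spec.map (CommRingCat.ofHom (Ideal.Quotient.mkₐ R I).toRingHom)) (by
      show Spec.map _ ≫ Spec.map _ = Spec.map _
      rw [← Spec.map_comp]
      congr 1)
    haveI : IsClosedImmersion ((Over.map p).map j).left :=
      IsClosedImmersion.spec_of_surjective _ Ideal.Quotient.mk_surjective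
    haveI : Surjective ((Over.map p).map j).left := ⟨fun x => by
      have hx : x ∈ Set.range (PrimeSpectrum.comap (Ideal.Quotient.mk I)) := by
        rw [range_comap_of_surjective _ _ Ideal.Quotient.mk_surjective, Ideal.mk_ker,
          PrimeSpectrum.mem_zeroLocus]
        intro z hz
        refine (inferInstance : x.asIdeal.IsPrime).mem_of_pow_mem 2 ?_
        rw [show z ^ 2 = 0 from (Submodule.mem_bot C).1 (hI ▸ Ideal.pow_mem_pow hz 2)]
        exact zero_mem _
      exact hx⟩
    have hb : Function.Bijective (fun a : sp C ⟶ W => j ≫ a) := by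
      let ev' : ∀ T, (T ⟶ W) → (Flatn.morS g f).obj (op ((Over.map p).obj T)) :=
        fun T a => (Flatn.morS g f).map ((Over.map p).map a).op ((conv g f).symm υ)
      have hev : ∀ T, Function.Bijective (ev' T) := fun T => (Function.bijective_iff_existsUnique _).2 (huniv T)
      have hcomp : ev' (sp (C ⧸ I)) ∘ (fun a : sp C ⟶ W => j ≫ a) =
          (Flatn.morS g f).map ((Over.map p).map j).op ∘ ev' (sp C) := funext fun a => by
        show (Flatn.morS g f).map ((Over.map p).map (j ≫ a)).op _ = _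
        rw [Functor.map_comp, op_comp, Functor.map_comp]
        rfl
      refine (hev _).of_comp_iff' _ |>.1 ?_
      rw [hcomp]
      exact (bijective_map_of_closedImmersion g ((Over.map p).map j)).comp (hev _)
    have hsq : tr (C ⧸ I) ∘ (Ideal.Quotient.mkₐ R I).comp = (fun a : sp C ⟶ W => j ≫ a) ∘ tr C := funext fun ψ => by
      refine Over.OverMorphism.ext ?_
      show Spec.map _ ≫ _ = Spec.map _ ≫ Spec.map _ ≫ _
      rw [← Spec.map_comp_assoc]
      rfl
    refine (htr _).of_comp_iff' _ |>.1 ?_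
    rw [hsq]
    exact hb.comp (htr C)
  exact ⟨inferInstance, inferInstance⟩

/-- The scheme of open-closed subsets. -/
theorem exists_representable [IsFinite g] [Flat g] [LocallyOfFinitePresentation g] :
    ∃ W : Over S, IsAffineHom W.hom ∧ Etale W.hom ∧ Nonempty ((Flatn.morS g (fold S)).RepresentableBy W) := by
  obtain ⟨Y, hY, ⟨r⟩⟩ := MorS.exists_representable g (fold S)
  refine ⟨Y, hY, ?_, ⟨r⟩⟩
  let F := Flatn.morS g (fold S)
  let 𝒰 := S.affineCover
  let R : 𝒰.I₀ → CommRingCat.{u} := fun i => Γ(𝒰.X i, ⊤)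
  let p : ∀ i, Spec (CommRingCat.of (R i)) ⟶ S := fun i => (𝒰.X i).isoSpec.inv ≫ 𝒰.f i
  haveI hp : ∀ i, IsOpenImmersion (p i) := fun i => inferInstanceAs (IsOpenImmersion ((𝒰.X i).isoSpec.inv ≫ 𝒰.f i))
  choose A e hA hrep using fun i => exists_chart g (R i) (p i)
  have hsq : ∀ i, IsPullback (r.homEquiv.symm (e i)).left (A i).hom Y.hom (p i) := by
    intro i
    refine ⟨⟨Over.w (r.homEquiv.symm (e i))⟩, ⟨?_⟩⟩
    have hex : ∀ s : PullbackCone Y.hom (p i), ∃! a : Over.mk s.snd ⟶ A i,
        (Over.map (p i)).map a ≫ r.homEquiv.symm (e i) =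
          Over.homMk (U := (Over.map (p i)).obj (Over.mk s.snd)) (V := Y) s.fst s.condition := by
      intro s
      let b : (Over.map (p i)).obj (Over.mk s.snd) ⟶ Y := Over.homMk s.fst s.condition
      refine (Function.bijective_iff_existsUnique _).1 ?_ b
      have h : (fun a : Over.mk s.snd ⟶ A i => r.homEquiv ((Over.map (p i)).map a ≫ r.homEquiv.symm (e i))) =
          fun a => F.map ((Over.map (p i)).map a).op (e i) := funext fun a => by
        rw [r.homEquiv_comp, Equiv.apply_symm_apply]
      refine (r.homEquiv.bijective.of_comp_iff' _).1 ?_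
      show Function.Bijective fun a : Over.mk s.snd ⟶ A i => r.homEquiv ((Over.map (p i)).map a ≫ r.homEquiv.symm (e i))
      rw [h]
      exact (Function.bijective_iff_existsUnique _).2 (hrep i (Over.mk s.snd))
    refine PullbackCone.IsLimit.mk _ (fun s => (hex s).choose.left) (fun s => ?_) (fun s => Over.w (hex s).choose)
      (fun s m hm₁ hm₂ => ?_)
    · exact congrArg CommaMorphism.left (hex s).choose_spec.1
    · exact congrArg CommaMorphism.left ((hex s).choose_spec.2 (Over.homMk m hm₂) (Over.OverMorphism.ext hm₁))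
  refine (IsZariskiLocalAtTarget.iff_of_openCover (P := @Etale) 𝒰).2 fun i => ?_
  show Etale (pullback.snd Y.hom (𝒰.f i))
  have hcmp : IsPullback (pullback.fst Y.hom (𝒰.f i)) (pullback.snd Y.hom (𝒰.f i) ≫ (𝒰.X i).isoSpec.hom) Y.hom (p i) :=
    (IsPullback.of_hasPullback Y.hom (𝒰.f i)).of_iso (Iso.refl _) (Iso.refl _) (𝒰.X i).isoSpec (Iso.refl _)
      (by simp) (by simp) (by simp) (by simp [p])
  haveI := hA i
  have h1 : Etale (pullback.snd Y.hom (𝒰.f i) ≫ (𝒰.X i).isoSpec.hom) := by
    rw [← IsPullback.isoIsPullback_hom_snd _ _ hcmp (hsq i)]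
    infer_instance
  exact (MorphismProperty.cancel_right_of_respectsIso @Etale _ _).1 h1

end Groth.Agent.IdemSchemeLib
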